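import Mathlib
import Cfsg.Agent.Chev.SzAut
import Cfsg.Agent.Chev.SzSolv
import Cfsg.Agent.S0088

/-!
# Automorphisms of Suzuki groups of order prime to the group order; odd part of the multiplier
-/

set_option autoImplicit false

namespace Cfsg.Agent.S4F

open Subgroup MulAction Cfsg.Agent.Chev Cfsg.Agent.Chev.Suz

variable {F : Type*} [Field F] {m : ℕ} [SzField F m]

variable (F) in
/-- The field automorphisms as a homomorphism. -/
noncomputable def fieldHom : (F ≃+* F) →* MulAut (Sz F m) where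
  toFun := fieldAut
  map_one' := by
    ext1 g
    apply mat_injective
    ext i j
    simp
  map_mul' σ τ := by
    ext1 g
    apply mat_injective
    ext i j
    simp

theorem fieldHom_injective : Function.Injective (fieldHom F : _ →* MulAut (Sz F m)) := by
  rw [injective_iff_map_eq_one]
  intro σ h
  ext b
  have := congrArg (fun α : MulAut (Sz F m) => α (uu 0 b)) h
  simpa [fieldHom, uu_inj] using this

instance instFiniteAutSz : Finite (MulAut (Sz F m)) :=
  Finite.of_injective (fun α : MulAut (Sz F m) => (α : Sz F m → Sz F m)) DFunLike.coe_injective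

theorem index_range_fieldHom_dvd :
    (fieldHom F : _ →* MulAut (Sz F m)).range.index ∣ Nat.card (Sz F m) := by
  have h1 := (fieldHom F : _ →* MulAut (Sz F m)).range.card_mul_index
  have h2 := (MulAut.conj : Sz F m →* MulAut (Sz F m)).range.card_mul_index
  rw [index_eq_card, card_out F, ← h1,
    ← Nat.card_congr (MonoidHom.ofInjective fieldHom_injective).toEquiv, card_ringAut F,
    mul_comm] at h2
  rw [← Nat.eq_of_mul_eq_mul_left (by omega) h2]
  exact card_range_dvd _

/-- An automorphism of prime power order prime to the group order is conjugate to a field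
automorphism. -/
theorem exists_conj_fieldAut {p : ℕ} [Fact p.Prime] (hp : ¬ p ∣ Nat.card (Sz F m))
    {P : Subgroup (MulAut (Sz F m))} (hP : IsPGroup p P) :
    ∃ γ : MulAut (Sz F m), ∀ β ∈ P, ∃ σ : F ≃+* F, γ⁻¹ * β * γ = fieldAut σ := by
  obtain ⟨x, hx⟩ := hP.nonempty_fixed_point_of_prime_not_dvd_card
    (MulAut (Sz F m) ⧸ (fieldHom F : _ →* MulAut (Sz F m)).range)
    (fun h => hp (h.trans index_range_fieldHom_dvd))
  obtain ⟨γ, rfl⟩ := QuotientGroup.mk_surjective x
  refine ⟨γ, fun β hβ => ?_⟩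
  have h := hx ⟨β, hβ⟩
  change QuotientGroup.mk (β * γ) = QuotientGroup.mk γ at h
  obtain ⟨σ, hσ⟩ := QuotientGroup.eq.1 h.symm
  exact ⟨σ, by rw [mul_assoc]; exact hσ.symm⟩

/-- A field automorphism with solvable fixed point subgroup has order `2m+1`. -/
theorem orderOf_of_isSolvable (σ : F ≃+* F) {X : Subgroup (Sz F m)} (hX : Group.IsSolvable X)
    (h : ∀ g, fieldAut σ g = g → g ∈ X) : 2 * m + 1 ≤ orderOf σ := by
  have : Finite (F ≃+* F) := Nat.finite_of_card_ne_zero (by rw [card_ringAut F]; omega)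
  let K₀ : Subfield F := FixedPoints.subfield (zpowers σ) F
  have hK : ∀ x ∈ K₀, x = 0 ∨ x = 1 := by
    by_contra hne
    push Not at hne
    obtain ⟨x, hx, h0, h1⟩ := hne
    apply not_isSolvable_conj_subSz (K₀ := K₀) ⟨x, hx, h0, h1⟩ (1 : Sz F m)
    refine isSolvable_of_le (K := X) ?_
    rintro _ ⟨g, hg, rfl⟩
    apply h
    apply mat_injective
    ext i j
    simpa using hg i j ⟨σ, mem_zpowers σ⟩
  have hc : Nat.card K₀ ≤ 2 := by
    have : (K₀ : Set F) ⊆ {0, 1} := fun x hx => hK x hx
    exact (Set.ncard_le_ncard this).trans ((Set.ncard_insert_le _ _).trans (by simp))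
  have := Fintype.ofFinite (zpowers σ)
  have h1 := FixedPoints.finrank_le_card (zpowers σ) F
  rw [← Nat.card_eq_fintype_card, Nat.card_zpowers] at h1
  have h2 := Module.natCard_eq_pow_finrank (K := K₀) (V := F)
  rw [card_F F] at h2
  have h3 : 2 ^ (2 * m + 1) ≤ 2 ^ orderOf σ :=
    h2 ▸ (Nat.pow_le_pow_left hc _).trans (Nat.pow_le_pow_right two_pos h1)
  exact (Nat.pow_le_pow_iff_right one_lt_two).1 h3

/-- An automorphism of prime order `p` not dividing the group order with solvable fixed point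
subgroup: `2m+1 ≤ p`. -/
theorem le_of_isSolvable {p : ℕ} [hp : Fact p.Prime] (hd : ¬ p ∣ Nat.card (Sz F m))
    {β : MulAut (Sz F m)} (hβ : β ^ p = 1) {X : Subgroup (Sz F m)} (hX : Group.IsSolvable X)
    (h : ∀ g, β g = g → g ∈ X) : 2 * m + 1 ≤ p := by
  have hP : IsPGroup p (zpowers β) := by
    rintro ⟨_, k, rfl⟩
    refine ⟨1, Subtype.ext ?_⟩
    change (β ^ k) ^ p ^ 1 = 1
    rw [pow_one, ← zpow_natCast, ← zpow_mul, mul_comm k, zpow_mul, zpow_natCast, hβ, one_zpow]
  obtain ⟨γ, hγ⟩ := exists_conj_fieldAut hd hP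
  obtain ⟨σ, hσ⟩ := hγ β (mem_zpowers β)
  have h1 : σ ^ p = 1 := by
    apply fieldHom_injective (m := m)
    rw [map_pow, map_one]
    change fieldAut σ ^ p = 1
    rw [← hσ, show γ⁻¹ * β * γ = γ⁻¹ * β * γ⁻¹⁻¹ by rw [inv_inv], conj_pow, hβ]
    simp
  have h2 : Group.IsSolvable (X.comap γ.toMonoidHom) :=
    Group.isSolvable_of_isSolvable_injective (f := γ.toMonoidHom.subgroupComap X)
      fun a b hab => Subtype.ext (γ.injective (congrArg Subtype.val hab))
  refine (orderOf_of_isSolvable σ h2 fun g hg => h _ ?_).trans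
    (orderOf_le_of_pow_eq_one hp.out.pos h1)
  rw [← hσ] at hg
  simpa using congrArg γ hg

/-- The centre of a perfect central extension of a Suzuki group is a `2`-group. -/
theorem isPGroup_center {K : Type*} [Group K] [Finite K] (hK : commutator K = ⊤)
    (e : K ⧸ center K ≃* Sz F m) : IsPGroup 2 (center K) := by
  have : Fact (Nat.Prime 2) := ⟨Nat.prime_two⟩
  rw [IsPGroup.iff_card]
  refine ⟨_, Nat.eq_prime_pow_of_unique_prime_dvd Nat.card_pos.ne' fun {p} hp hd => ?_⟩
  by_contra hp2
  have := Fact.mk hp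
  obtain ⟨z, hz⟩ := exists_prime_orderOf_dvd_card' p hd
  have hz' : IsPGroup p (zpowers (z : K)) :=
    IsPGroup.of_card (n := 1) (by rw [Nat.card_zpowers, orderOf_coe, hz, pow_one])
  obtain ⟨P, hP⟩ := hz'.exists_le_sylow
  let f : P →* Sz F m := (e.toMonoidHom.comp (QuotientGroup.mk' _)).comp (P : Subgroup K).subtype
  have hc : IsCyclic f.range := isCyclic_of_odd_prime hp2 (P.isPGroup'.of_surjective _
    f.rangeRestrict_surjective)
  have hcomm : IsMulCommutative (P : Subgroup K) := by
    refine MonoidHom.isMulCommutative_of_isCyclic_of_ker_le_center f.rangeRestrict ?_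
    intro x hx
    rw [MonoidHom.ker_rangeRestrict, MonoidHom.mem_ker] at hx
    have h1 : (x : K) ∈ center K := (QuotientGroup.eq_one_iff _).1 (e.injective (hx.trans (map_one e).symm))
    rw [mem_center_iff] at h1 ⊢
    exact fun y => Subtype.ext (h1 y)
  have h1 := S0088.result (P : Subgroup K) hcomm P.card_coprime_index
  have h2 : (z : K) ∈ (P : Subgroup K) ⊓ commutator K ⊓ center K :=
    ⟨⟨hP (mem_zpowers _), hK ▸ mem_top _⟩, z.2⟩
  rw [h1, mem_bot] at h2
  rw [← orderOf_coe, h2, orderOf_one] at hz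
  exact hp.one_lt.ne hz

end Cfsg.Agent.S4F
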